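import Cfsg.Agent.Omega.IIa2.End
import Cfsg.Agent.Omega.FFTwoA.Kill

/-!
# Leaf II.a, `q = 2` (MASTER REDUCTION v5.2)

* `Ent.kill`: `Ω₁(Z(O₂(C(z)))) = ⟨z⟩` (`FFTwoA.Kill.kill`);
* `exists_sympl`: a mutual pair `V_P`, `V_P^x` with `|V_P| = 4` gives an involution `z` with `F*(C_G(z))` of
  symplectic type;
* `known`, `leafA2`: `FrameExtra.NodeSympl K` implies `FrameFF.LeafA2 K`.
-/

set_option autoImplicit false

namespace Cfsg.Agent.Omega.IIa2

open Subgroup Cfsg Cfsg.Agent.ZN Cfsg.Agent.Omega.Frame Cfsg.Agent.Omega.Exits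

universe u

theorem Ent.kill {G : Type u} [Group G] [Finite G] {S : Sylow 2 G} {z a : G} (hG : IsCharacteristicTwoType G)
    (h : Ent S z a) : ∀ d, FFTwoA.Main.Dp Oc z d → d * d = 1 → d = 1 ∨ d = z :=
  FFTwoA.Kill.kill h.cfg S h.le h.hZ (fun _ hv hv1 _ hx hq => hch hG hv hv1 hx hq) h.hna

/-- A mutual pair `V_P`, `V_P^x` with `|V_P| = 4`: `F*(C_G(z))` is of symplectic type for some involution `z`. -/
theorem exists_sympl {G : Type u} [Group G] [Finite G] (hG : Ctx G) (S : Sylow 2 G) {P : Subgroup G} {x : G}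
    (hm : Mutual (S : Subgroup G) P P x) (h4 : Nat.card (zl (S : Subgroup G) P) = 4) :
    ∃ z : G, orderOf z = 2 ∧ (S : Subgroup G) ≤ centralizer ({z} : Set G) ∧
      IsOfSymplecticType ↥(generalizedFittingSubgroup ↥(centralizer ({z} : Set G))) := by
  obtain ⟨z, a, h⟩ := exists_ent hG.char2 S hm h4
  exact ⟨z, h.orderOf_z, h.le, h.sympl hG (h.kill hG.char2)⟩

variable {K : Cls.{u}}

/-- **II.a, `q = 2`**, without further hypotheses on the other members of `P*(S)`. -/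
theorem known (hX : FrameExtra.NodeSympl K) {G : Type u} [Group G] [Finite G] (hG : Ctx G) (hK : K G)
    (S : Sylow 2 G) {P : Subgroup G} {x : G} (hm : Mutual (S : Subgroup G) P P x)
    (h4 : Nat.card (zl (S : Subgroup G) P) = 4) : IsKnownSimple' G := by
  obtain ⟨z, hz, -, h⟩ := exists_sympl hG S hm h4
  exact hX G hG hK z hz h

/-- **Leaf II.a, `q = 2`.** -/
theorem leafA2 (hX : FrameExtra.NodeSympl K) : FrameFF.LeafA2 K :=
  fun _ _ _ hG hK S _ _ _ _ _ hm h4 => known hX hG hK S hm.pair h4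

end Cfsg.Agent.Omega.IIa2
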