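import Cfsg.Agent.Omega.FrameFF
import Cfsg.Agent.Omega.FFTwoA.Four
import Cfsg.Agent.Omega.NOne.LemmaT
import Cfsg.Agent.Involutions.BaerSuzuki
import Cfsg.Agent.LargeExtra.Red.SiegelE
import Cfsg.Agent.MinSimple.CaseD8

/-!
# Leaf II.a, `q = 2`: the entry

`P ∈ P*(S)` with `|V_P| = 4` and `V_P`, `V_P^x` a mutual pair.  Then `Ω₁(Z(S)) = {1, z}`, and with
`O v = O₂(C(v))` the configuration `FFTwoA.Main.Cfg O z a` holds for `V_P = {1, z, a, z a}` (`Ent`); `hC`, `hB`,
`hch` are the facts on `O₂(C(z))` used by `FFTwoA.Four` and `FFTwoA.Final`.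
-/

set_option autoImplicit false

namespace Cfsg.Agent.Omega.IIa2

open Subgroup MulAction Pointwise Cfsg Cfsg.Agent.ZN Cfsg.Agent.MinSimple
open Cfsg.Agent.Omega.MinPar (IsPar IsParS IsLoc)
open Cfsg.Agent.MinSimple.CosetGraph (mem_conj_smul conj_smul_conj_smul mem_normalizer_iff_conj_smul)

universe u

variable {G : Type u} [Group G]

/-- `O₂(C_G(v))` -/
abbrev Oc : G → Subgroup G := fun v => o2 (centralizer ({v} : Set G))

theorem cz_conj (g v : G) :
    centralizer ({g * v * g⁻¹} : Set G) = MulAut.conj g • centralizer ({v} : Set G) := by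
  ext x
  rw [mem_conj_smul, mem_centralizer_singleton_iff, mem_centralizer_singleton_iff]
  constructor
  · intro h
    have := congrArg (fun y => g⁻¹ * y * g) h
    simpa [mul_assoc] using this
  · intro h
    have := congrArg (fun y => g * y * g⁻¹) h
    simpa [mul_assoc] using this

theorem eqv : FFTwoA.Main.Eqv (Oc (G := G)) := by
  intro g v x hx
  change MulAut.conj g x ∈ o2 (centralizer ({MulAut.conj g v} : Set G))
  rw [MulAut.conj_apply g v, cz_conj, CosetFam.o2_conj]
  exact smul_mem_pointwise_smul x (MulAut.conj g) _ hx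

theorem comm_of_mem {z x : G} (h : x ∈ Oc z) : x * z = z * x :=
  mem_centralizer_singleton_iff.1 (CosetFam.o2_le_self _ h)

/-- A group of order 4. -/
theorem four_mem {V : Subgroup G} (hc : Nat.card V = 4) {z a : G} (hz : z ∈ V) (ha : a ∈ V) (z1 : z ≠ 1)
    (a1 : a ≠ 1) (az : a ≠ z) (zz : z * z = 1) : ∀ v ∈ V, v = 1 ∨ v = z ∨ v = a ∨ v = z * a := by
  intro v hv
  by_contra hcon
  push Not at hcon
  obtain ⟨h1, h2, h3, h4⟩ := hcon
  have hfin : Finite V := Nat.finite_of_card_ne_zero (by omega)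
  have hza1 : z * a ≠ 1 := by
    intro h
    apply az
    have : z * (z * a) = z := by rw [h, mul_one]
    rwa [← mul_assoc, zz, one_mul] at this
  have hzaz : z * a ≠ z := fun h => a1 (by simpa using h)
  have hzaa : z * a ≠ a := fun h => z1 (by simpa using h)
  let f : Fin 5 → V := ![1, ⟨z, hz⟩, ⟨a, ha⟩, ⟨z * a, mul_mem hz ha⟩, ⟨v, hv⟩]
  have hf : Function.Injective f := by
    intro i j hij
    have hij' : ((f i : V) : G) = ((f j : V) : G) := congrArg Subtype.val hij
    fin_cases i <;> fin_cases j <;>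
      simp [f] at hij' ⊢ <;>
      first
        | exact absurd hij' z1
        | exact absurd hij' z1.symm
        | exact absurd hij' a1
        | exact absurd hij' a1.symm
        | exact absurd hij' az
        | exact absurd hij' az.symm
        | exact absurd hij' hza1
        | exact absurd hij' hza1.symm
        | exact absurd hij' h1
        | exact absurd hij' h1.symm
        | exact absurd hij' h2
        | exact absurd hij' h2.symm
        | exact absurd hij' h3
        | exact absurd hij' h3.symm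
        | exact absurd hij' h4
        | exact absurd hij' h4.symm
  have := Nat.card_le_card_of_injective f hf
  rw [hc, Nat.card_eq_fintype_card, Fintype.card_fin] at this
  omega

/-! ### Facts on `O₂(C(z))` -/

section facts

variable [Finite G] (hG : IsCharacteristicTwoType G) {z : G} (hzz : z * z = 1) (hz1 : z ≠ 1)

include hG hzz hz1

theorem char2_cz : centralizer ({z} : Set G) ⊓ centralizer (Oc z : Set G) ≤ Oc z :=
  Basic.char2_centralizer hG (by rw [pow_two]; exact hzz) hz1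

theorem hch {x : G} (hx : x * z = z * x) (h : ∀ q ∈ Oc z, x * q = q * x) : x ∈ Oc z :=
  char2_cz hG hzz hz1 ⟨mem_centralizer_singleton_iff.2 hx,
    mem_centralizer_iff.2 fun q hq => (h q hq).symm⟩

theorem hC : ∀ s, s * z = z * s →
    (∀ q ∈ Oc z, q * s * q⁻¹ * s⁻¹ = 1 ∨ q * s * q⁻¹ * s⁻¹ = z) → s ∈ Oc z := by
  intro s hs h
  have hz2 : z ^ 2 = 1 := by rw [pow_two]; exact hzz
  have hF : centralizer ({z} : Set G) ≤ centralizer ((zpowers z : Subgroup G) : Set G) := by
    intro g hg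
    rw [mem_centralizer_singleton_iff] at hg
    rw [mem_centralizer_iff]
    rintro _ ⟨k, rfl⟩
    have : Commute g z := hg
    exact (this.zpow_right k).symm.eq
  have hst : s ∈ NOne.LemmaT.stab (centralizer ({z} : Set G)) (Oc z) (zpowers z) hF := by
    refine ⟨mem_centralizer_singleton_iff.2 hs, fun r hr => ?_⟩
    have e : s * r * s⁻¹ * r⁻¹ = (r * s * r⁻¹ * s⁻¹)⁻¹ := by group
    rw [e]
    refine inv_mem ?_
    rcases h r hr with k | k <;> rw [k]
    · exact one_mem _
    · exact mem_zpowers z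
  exact NOne.LemmaT.le_o2_of_stab (char2_cz hG hzz hz1) (Basic.isPGroup_zpowers hz2) hF
    (V := NOne.LemmaT.stab (centralizer ({z} : Set G)) (Oc z) (zpowers z) hF) (fun x hx => hx.1)
    (fun v hv => hv.2) hst

omit hG hzz hz1 in
theorem hB : ∀ t, t * z = z * t → t * t = 1 →
    (∀ g, g * z = z * g → (t * (g * t * g⁻¹)) ^ 4 = 1) → t ∈ Oc z := by
  intro t htz htt h
  have hf : Fact (Nat.Prime 2) := ⟨Nat.prime_two⟩
  have htC : t ∈ centralizer ({z} : Set G) := mem_centralizer_singleton_iff.2 htz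
  have key : (⟨t, htC⟩ : ↥(centralizer ({z} : Set G))) ∈ pCore 2 ↥(centralizer ({z} : Set G)) := by
    refine Involutions.BaerSuzuki.mem_pCore_of_conj_pairs _ fun g => ?_
    have hg := mem_centralizer_singleton_iff.1 g.2
    refine LargeExtra.Red.SiegelE.isPGroup_pair (Subtype.ext htt) (Subtype.ext ?_) (Subtype.ext ?_)
    · change (g : G) * t * (g : G)⁻¹ * ((g : G) * t * (g : G)⁻¹) = 1
      calc (g : G) * t * (g : G)⁻¹ * ((g : G) * t * (g : G)⁻¹) = g * (t * t) * (g : G)⁻¹ := by group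
        _ = 1 := by rw [htt]; group
    · exact h g hg
  exact mem_map_of_mem (centralizer ({z} : Set G)).subtype key

end facts

/-! ### The entry -/

/-- The configuration of case II.a, `q = 2`, in `G`. -/
structure Ent (S : Sylow 2 G) (z a : G) : Prop where
  cfg : FFTwoA.Main.Cfg Oc z a
  le : (S : Subgroup G) ≤ centralizer ({z} : Set G)
  hZ : ∀ x ∈ (S : Subgroup G), (∀ y ∈ (S : Subgroup G), x * y = y * x) → x * x = 1 → x = 1 ∨ x = z
  hna : ∃ m, m * z = z * m ∧ ¬ (m * a * m⁻¹) * a = a * (m * a * m⁻¹)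

variable [Finite G]

/-- `zc S = {1, z}` -/
theorem exists_z (S : Sylow 2 G) {P : Subgroup G}
    (hP : IsParS (S : Subgroup G) P) (h4 : Nat.card (zl (S : Subgroup G) P) = 4) :
    ∃ z, z ≠ 1 ∧ z * z = 1 ∧ ∀ x, x ∈ zc (S : Subgroup G) ↔ x = 1 ∨ x = z := by
  have hne : zc (S : Subgroup G) ≠ ⊥ := zc_ne_bot_of_par S hP.toIsPar
  have hle : zc (S : Subgroup G) ≤ zl (S : Subgroup G) P := VModule.zc_le_zl _ _
  have hlt : zc (S : Subgroup G) ≠ zl (S : Subgroup G) P := by
    intro h
    exact hP.not_zc (h ▸ VModule.le_normalizer_zl _ _)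
  have hdvd : Nat.card (zc (S : Subgroup G)) ∣ 4 := h4 ▸ card_dvd_of_le hle
  have h1 : Nat.card (zc (S : Subgroup G)) ≠ 1 := fun h => hne (card_eq_one.1 h)
  have h4' : Nat.card (zc (S : Subgroup G)) ≠ 4 := fun h => hlt (eq_of_le_of_card_ge hle (by omega))
  have h2 : Nat.card (zc (S : Subgroup G)) = 2 := by
    have h5 : Nat.card (zc (S : Subgroup G)) ≤ 4 := Nat.le_of_dvd (by norm_num) hdvd
    interval_cases h6 : Nat.card (zc (S : Subgroup G)) <;> omega
  obtain ⟨x, y, hxy, hu⟩ := Nat.card_eq_two_iff.1 h2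
  have hz : ∃ w : zc (S : Subgroup G), w ≠ 1 ∧ ∀ v : zc (S : Subgroup G), v = 1 ∨ v = w := by
    have hmem : ∀ v : zc (S : Subgroup G), v = x ∨ v = y := fun v => by
      have : v ∈ ({x, y} : Set _) := by rw [hu]; trivial
      simpa using this
    rcases hmem 1 with h | h
    · exact ⟨y, fun h' => hxy (h ▸ h'.symm ▸ rfl), fun v => by rw [h]; exact hmem v⟩
    · exact ⟨x, fun h' => hxy (by rw [h', h]), fun v => by rw [h]; exact (hmem v).symm⟩
  obtain ⟨w, hw1, hw⟩ := hz
  refine ⟨w, fun h => hw1 (Subtype.ext h), ?_, fun v => ⟨fun hv => ?_, ?_⟩⟩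
  · have := (VModule.mem_zc.1 w.2).2.2
    rwa [pow_two] at this
  · rcases hw ⟨v, hv⟩ with h | h
    · exact Or.inl (congrArg Subtype.val h)
    · exact Or.inr (congrArg Subtype.val h)
  · rintro (rfl | rfl)
    · exact one_mem _
    · exact w.2

/-- **Entry.** -/
theorem exists_ent (hG : IsCharacteristicTwoType G) (S : Sylow 2 G) {P : Subgroup G} {x : G}
    (hm : Mutual (S : Subgroup G) P P x) (h4 : Nat.card (zl (S : Subgroup G) P) = 4) :
    ∃ z a, Ent S z a := by
  obtain ⟨z, hz1, hzz, hzc⟩ := exists_z S hm.star₁ h4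
  have hP := hm.star₁
  have hPl := hP.isLoc
  have hSP : (S : Subgroup G) ≤ P := hPl.le
  have hnd := Basic.not_dvd_relIndex S hSP
  have hch2 := hPl.char2 S hG
  set V := zl (S : Subgroup G) P with hV
  have hVc : ∀ x ∈ V, ∀ y ∈ V, x * y = y * x := VModule.zl_comm hSP S.isPGroup' hnd hch2
  have hVs : ∀ x ∈ V, x * x = 1 := fun x hx => by
    have := VModule.zl_sq hSP S.isPGroup' hnd hch2 x hx
    rwa [pow_two] at this
  have hPV : P ≤ normalizer (V : Set G) := VModule.le_normalizer_zl _ _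
  have hSV : (S : Subgroup G) ≤ normalizer (V : Set G) := hSP.trans hPV
  have hV2 : IsPGroup 2 V := by
    intro v
    exact ⟨1, Subtype.ext (by
      change (v : G) ^ (2 ^ 1) = 1
      rw [pow_one, pow_two]
      exact hVs _ v.2)⟩
  have hVS : V ≤ (S : Subgroup G) := MinPar.le_of_le_normalizer S hV2 hSV
  have hzcz : z ∈ zc (S : Subgroup G) := (hzc z).2 (Or.inr rfl)
  have hzV : z ∈ V := VModule.zc_le_zl _ _ hzcz
  have hSz : (S : Subgroup G) ≤ centralizer ({z} : Set G) := fun g hg =>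
    mem_centralizer_singleton_iff.2 ((VModule.mem_zc.1 hzcz).2.1 g hg)
  -- `a`
  obtain ⟨p, hpP, hpz⟩ : ∃ p ∈ P, p * z * p⁻¹ ≠ z := by
    by_contra hcon
    push Not at hcon
    refine hP.not_zc fun p hp => ?_
    rw [mem_normalizer_iff]
    intro y
    rw [hzc, hzc]
    have h1 := hcon p hp
    constructor
    · rintro (rfl | rfl)
      · left; group
      · right; exact h1
    · rintro (h | h)
      · left
        have : y = p⁻¹ * (p * y * p⁻¹) * p := by group
        rw [this, h]; group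
      · right
        have : y = p⁻¹ * (p * y * p⁻¹) * p := by group
        rw [this, h]
        nth_rewrite 1 [← h1]
        group
  set a := p * z * p⁻¹ with ha
  have haV : a ∈ V := (mem_normalizer_iff.1 (hPV hpP) z).1 hzV
  have haa : a * a = 1 := hVs a haV
  have ha1 : a ≠ 1 := by
    intro h
    apply hz1
    have : z = p⁻¹ * a * p := by rw [ha]; group
    rw [this, h]; group
  have hza : z * a = a * z := hVc z hzV a haV
  have hfour := four_mem h4 hzV haV hz1 ha1 hpz hzz
  have hza1 : z * a ≠ 1 := by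
    intro h
    apply hpz
    have : z * (z * a) = z := by rw [h, mul_one]
    rwa [← mul_assoc, hzz, one_mul] at this
  -- elements of `N(V)` fixing `z`
  have hnz : ∀ s ∈ normalizer (V : Set G), s * z = z * s → s * a * s⁻¹ = a ∨ s * a * s⁻¹ = z * a := by
    intro s hs hsz
    have h1 : s * a * s⁻¹ ∈ V := (mem_normalizer_iff.1 hs a).1 haV
    have h2 : s * a * s⁻¹ ≠ 1 := by
      intro h
      apply ha1
      have : a = s⁻¹ * (s * a * s⁻¹) * s := by group
      rw [this, h]; group
    have h3 : s * a * s⁻¹ ≠ z := by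
      intro h
      apply hpz
      have h5 : a = s⁻¹ * (s * a * s⁻¹) * s := by group
      have h6 : s⁻¹ * z * s = z := by rw [mul_assoc, ← hsz, inv_mul_cancel_left]
      rw [h5, h, h6]
    rcases hfour _ h1 with h | h | h | h
    · exact absurd h h2
    · exact absurd h h3
    · exact Or.inl h
    · exact Or.inr h
  -- `s ∈ S` moving `a`
  obtain ⟨s, hsS, hsa⟩ : ∃ s ∈ (S : Subgroup G), s * a * s⁻¹ = z * a := by
    by_contra hcon
    push Not at hcon
    have h1 : a ∈ zc (S : Subgroup G) := by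
      refine VModule.mem_zc.2 ⟨hVS haV, fun b hb => ?_, by rw [pow_two]; exact haa⟩
      rcases hnz b (hSV hb) (mem_centralizer_singleton_iff.1 (hSz hb)) with h | h
      · exact mul_inv_eq_iff_eq_mul.1 h
      · exact absurd h (hcon b hb)
    rcases (hzc a).1 h1 with h | h
    · exact ha1 h
    · exact hpz h
  have hsz : s * z = z * s := mem_centralizer_singleton_iff.1 (hSz hsS)
  -- rotation
  have hrot : ∃ n ∈ normalizer (V : Set G), n * z * n⁻¹ = a ∧ n * a * n⁻¹ = z * a := by
    have hpa : p * a * p⁻¹ = z * a ∨ p * a * p⁻¹ = z := by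
      have h1 : p * a * p⁻¹ ∈ V := (mem_normalizer_iff.1 (hPV hpP) a).1 haV
      have inj := (MulAut.conj p).injective
      rcases hfour _ h1 with h | h | h | h
      · exact absurd (inj (h.trans (map_one _).symm)) ha1
      · exact Or.inr h
      · exact absurd (inj h) hpz
      · exact Or.inl h
    rcases hpa with h | h
    · exact ⟨p, hPV hpP, rfl, h⟩
    · refine ⟨p * s, mul_mem (hPV hpP) (hSV hsS), ?_, ?_⟩
      · have : p * s * z * (p * s)⁻¹ = p * (s * z) * s⁻¹ * p⁻¹ := by group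
        rw [this, hsz, ha]; group
      · have : p * s * a * (p * s)⁻¹ = p * (s * a * s⁻¹) * p⁻¹ := by group
        rw [this, hsa]
        have : p * (z * a) * p⁻¹ = (p * z * p⁻¹) * (p * a * p⁻¹) := by group
        rw [this, h, ← ha, hza]
  obtain ⟨n, hnV, hn1, hn2⟩ := hrot
  -- `V ≤ O z`
  have hcF : centralizer (zc (S : Subgroup G) : Set G) = centralizer ({z} : Set G) := by
    ext g
    rw [mem_centralizer_iff, mem_centralizer_singleton_iff]
    constructor
    · intro h
      exact (h z hzcz).symm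
    · intro h y hy
      rcases (hzc y).1 hy with rfl | rfl
      · group
      · exact h.symm
  have hzc2 : Nat.card (zc (S : Subgroup G)) = 2 := by
    rw [Nat.card_eq_two_iff]
    refine ⟨1, ⟨z, hzcz⟩, fun h => hz1 (congrArg Subtype.val h).symm, ?_⟩
    ext v
    simp only [Set.mem_insert_iff, Set.mem_singleton_iff, Set.mem_univ, iff_true]
    rcases (hzc v).1 v.2 with h | h
    · exact Or.inl (Subtype.ext h)
    · exact Or.inr (Subtype.ext h)
  have hVO : V ≤ Oc z := by
    have h1 := NOne.LemmaT.lemmaT' hG S (F := zc (S : Subgroup G)) (V := V)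
      (zc_ne_bot_of_par S hP.toIsPar) (VModule.zc_le_zl _ _) hVS hSV
      (le_normalizer.trans (VModule.normalizer_le_normalizer_zc _))
      (fun v hv => mem_centralizer_iff.2 fun w hw => hVc w hw v hv)
    rw [hcF] at h1
    rcases h1 with h1 | ⟨h1, h2⟩
    · exact h1
    · exfalso
      have h3 : Nat.card ↥(V ⊓ o2 (centralizer ({z} : Set G))) ∣ 4 := h4 ▸ card_dvd_of_le h2.le
      have h4' : 2 ∣ Nat.card ↥(V ⊓ o2 (centralizer ({z} : Set G))) := hzc2 ▸ card_dvd_of_le h1.le
      have h5 : Nat.card ↥(V ⊓ o2 (centralizer ({z} : Set G))) ≠ 2 := fun h =>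
        h1.ne (eq_of_le_of_card_ge h1.le (by omega))
      have h6 : Nat.card ↥(V ⊓ o2 (centralizer ({z} : Set G))) ≠ 4 := fun h =>
        h2.ne (eq_of_le_of_card_ge h2.le (by omega))
      have h7 : Nat.card ↥(V ⊓ o2 (centralizer ({z} : Set G))) ≤ 4 := Nat.le_of_dvd (by norm_num) h3
      interval_cases h8 : Nat.card ↥(V ⊓ o2 (centralizer ({z} : Set G))) <;> omega
  have hOS : Oc z ≤ (S : Subgroup G) := by
    have h1 := NOne.LemmaT.o2_centralizer_le S (F := zc (S : Subgroup G))
      (le_normalizer.trans (VModule.normalizer_le_normalizer_zc _))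
    rwa [hcF] at h1
  have hnorm : ∀ q ∈ Oc z, q * a * q⁻¹ = a ∨ q * a * q⁻¹ = z * a := fun q hq =>
    hnz q (hSV (hOS hq)) (comm_of_mem hq)
  -- commutators of `V` and `O z`
  have hVq : ∀ b ∈ V, ∀ q ∈ Oc z, b * q * b⁻¹ * q⁻¹ = 1 ∨ b * q * b⁻¹ * q⁻¹ = z := by
    intro b hb q hq
    have hqz := comm_of_mem hq
    have hqz' : q * z * q⁻¹ = z := by rw [hqz, mul_assoc, mul_inv_cancel, mul_one]
    have hbi : b⁻¹ = b := inv_eq_of_mul_eq_one_left (hVs b hb)
    have e : b * q * b⁻¹ * q⁻¹ = b * (q * b * q⁻¹) := by rw [hbi]; group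
    rw [e]
    rcases hfour b hb with rfl | rfl | rfl | rfl
    · left; group
    · left; rw [hqz', hzz]
    · rcases hnorm q hq with h | h <;> rw [h]
      · left; exact haa
      · right; exact FFTwoA.Main.aza hza haa
    · have e2 : q * (z * a) * q⁻¹ = (q * z * q⁻¹) * (q * a * q⁻¹) := by group
      rw [e2, hqz']
      rcases hnorm q hq with h | h <;> rw [h]
      · left; exact hVs _ hb
      · right
        rw [← mul_assoc z z a, hzz, one_mul, mul_assoc, haa, mul_one]
  -- transitivity of `N(V)` on `V#`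
  have htr : ∀ r ∈ V, r ≠ 1 → ∃ l ∈ normalizer (V : Set G), l * r * l⁻¹ = z := by
    intro r hr hr1
    rcases hfour r hr with h | h | h | h
    · exact absurd h hr1
    · exact ⟨1, one_mem _, by rw [h]; group⟩
    · refine ⟨n⁻¹, inv_mem hnV, ?_⟩
      rw [h, ← hn1]; group
    · refine ⟨n⁻¹ * n⁻¹, mul_mem (inv_mem hnV) (inv_mem hnV), ?_⟩
      rw [h, ← hn2]
      have : n⁻¹ * n⁻¹ * (n * a * n⁻¹) * (n⁻¹ * n⁻¹)⁻¹ = n⁻¹ * a * n := by group
      rw [this, ← hn1]; group
  -- the conjugate of `V` under `C(z)` not commuting with `V`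
  obtain ⟨h, hhz, b, hb, v, hv, hbv⟩ : ∃ h : G, h * z = z * h ∧ ∃ b ∈ V, ∃ v ∈ V,
      ¬ (h * b * h⁻¹) * v = v * (h * b * h⁻¹) := by
    -- `r = [v, v']`
    obtain ⟨v, hv, y, hy, hvy⟩ : ∃ v ∈ V, ∃ y ∈ V,
        ¬ v * (x * y * x⁻¹) = (x * y * x⁻¹) * v := by
      by_contra hcon
      push Not at hcon
      apply hm.ne
      rw [commutator_eq_bot_iff_le_centralizer]
      intro v hv
      rw [mem_centralizer_iff]
      intro w hw
      have hw' : x⁻¹ * w * x ∈ V := mem_conj_smul.1 hw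
      have := hcon v hv _ hw'
      have e : x * (x⁻¹ * w * x) * x⁻¹ = w := by group
      rw [e] at this
      exact this.symm
    set w := x * y * x⁻¹ with hw
    have hwx : w ∈ MulAut.conj x • V := by
      rw [mem_conj_smul, hw]
      have : x⁻¹ * (x * y * x⁻¹) * x = y := by group
      rwa [this]
    set r := v * w * v⁻¹ * w⁻¹ with hr
    have hrV : r ∈ V := by
      have h1 : w * v⁻¹ * w⁻¹ ∈ V := (mem_normalizer_iff.1 (hm.le₂ hwx) v⁻¹).1 (inv_mem hv)
      have : r = v * (w * v⁻¹ * w⁻¹) := by rw [hr]; group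
      rw [this]
      exact mul_mem hv h1
    have hrx : r ∈ MulAut.conj x • V := by
      have h1 : v * w * v⁻¹ ∈ MulAut.conj x • V := (mem_normalizer_iff.1 (hm.le₁ hv) w).1 hwx
      exact mul_mem h1 (inv_mem hwx)
    have hr1 : r ≠ 1 := by
      intro h
      apply hvy
      rw [hr, mul_inv_eq_one, mul_inv_eq_iff_eq_mul] at h
      exact h
    obtain ⟨l, hlV, hl⟩ := htr r hrV hr1
    have hrx' : x⁻¹ * r * x ∈ V := mem_conj_smul.1 hrx
    have hrx1 : x⁻¹ * r * x ≠ 1 := by
      intro h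
      apply hr1
      have : r = x * (x⁻¹ * r * x) * x⁻¹ := by group
      rw [this, h]; group
    obtain ⟨k, hkV, hk⟩ := htr _ hrx' hrx1
    refine ⟨l * x * k⁻¹, ?_, k * y * k⁻¹, (mem_normalizer_iff.1 hkV y).1 hy, l * v * l⁻¹,
      (mem_normalizer_iff.1 hlV v).1 hv, ?_⟩
    · have h1 : k⁻¹ * z * k = x⁻¹ * r * x := by rw [← hk]; group
      have h2 : l * x * k⁻¹ * z * (l * x * k⁻¹)⁻¹ = z := by
        calc l * x * k⁻¹ * z * (l * x * k⁻¹)⁻¹ = l * x * (k⁻¹ * z * k) * x⁻¹ * l⁻¹ := by group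
          _ = l * r * l⁻¹ := by rw [h1]; group
          _ = z := hl
      exact mul_inv_eq_iff_eq_mul.1 h2
    · intro h1
      apply hvy
      have e : l * x * k⁻¹ * (k * y * k⁻¹) * (l * x * k⁻¹)⁻¹ = l * w * l⁻¹ := by rw [hw]; group
      rw [e] at h1
      have h2 : l * (w * v) * l⁻¹ = l * (v * w) * l⁻¹ := by
        calc l * (w * v) * l⁻¹ = l * w * l⁻¹ * (l * v * l⁻¹) := by group
          _ = l * v * l⁻¹ * (l * w * l⁻¹) := h1
          _ = l * (v * w) * l⁻¹ := by group
      exact (mul_left_cancel (mul_right_cancel h2)).symm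
  have hhb : h * b * h⁻¹ ∈ Oc z := by
    have h1 := (eqv (G := G)).mem_conj (hVO hb) hhz
    exact h1
  have hbz := comm_of_mem hhb
  -- `w = h b h⁻¹` moves `a`
  have hwa : ¬ (h * b * h⁻¹) * a = a * (h * b * h⁻¹) := by
    intro h1
    apply hbv
    rcases hfour v hv with rfl | rfl | rfl | rfl
    · group
    · exact hbz
    · exact h1
    · calc h * b * h⁻¹ * (z * a) = h * b * h⁻¹ * z * a := by group
        _ = z * (h * b * h⁻¹ * a) := by rw [hbz]; group
        _ = z * a * (h * b * h⁻¹) := by rw [h1]; group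
  have hmov : ∃ w, FFTwoA.Main.Wp Oc z w ∧ w * a * w⁻¹ = z * a := by
    refine ⟨h * b * h⁻¹, ⟨hhb, fun q hq => ?_, ?_⟩, ?_⟩
    · have hhi : h⁻¹ * z = z * h⁻¹ := by
        rw [inv_mul_eq_iff_eq_mul, ← mul_assoc, hhz, mul_assoc, mul_inv_cancel, mul_one]
      have hq' : h⁻¹ * q * h ∈ Oc z := by
        have := (eqv (G := G)).mem_conj hq hhi
        rwa [inv_inv] at this
      have e : h * b * h⁻¹ * q * (h * b * h⁻¹)⁻¹ * q⁻¹ =
          h * (b * (h⁻¹ * q * h) * b⁻¹ * (h⁻¹ * q * h)⁻¹) * h⁻¹ := by group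
      rw [e]
      rcases hVq b hb _ hq' with h1 | h1 <;> rw [h1]
      · left; group
      · right; rw [hhz]; group
    · left
      calc h * b * h⁻¹ * (h * b * h⁻¹) = h * (b * b) * h⁻¹ := by group
        _ = 1 := by rw [hVs b hb]; group
    · rcases hnorm _ hhb with h1 | h1
      · exact absurd (mul_inv_eq_iff_eq_mul.1 h1) hwa
      · exact h1
  have cfg0 : FFTwoA.Main.Cfg0 Oc z a :=
    { eqv := eqv
      comm := fun x hx => comm_of_mem hx
      zz := hzz
      aa := haa
      z1 := hz1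
      a1 := ha1
      az := hpz
      za := hza
      zO := hVO hzV
      aO := hVO haV
      norm := hnorm
      mov := hmov
      rot := ⟨n, hn1, hn2⟩ }
  refine ⟨z, a, ⟨⟨cfg0, cfg0.inter_of ?_⟩, hSz, ?_, ?_⟩⟩
  · intro D hDO hDn hD1
    have hDS : D ≤ (S : Subgroup G) := hDO.trans hOS
    have hNV : ∀ s ∈ (S : Subgroup G), FFTwoA.Main.NV z a s := by
      intro s hs
      have hsz := mem_centralizer_singleton_iff.1 (hSz hs)
      refine ⟨Or.inl ?_, ?_⟩
      · rw [MulAut.conj_apply, hsz, mul_assoc, mul_inv_cancel, mul_one]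
      · rcases hnz s (hSV hs) hsz with h | h
        · exact Or.inr (Or.inl h)
        · exact Or.inr (Or.inr h)
    have hDne : D ≠ ⊥ := by
      rintro rfl
      obtain ⟨d, hd, hd1⟩ := hD1
      exact hd1 (mem_bot.1 hd)
    have hSD : (S : Subgroup G) ≤ normalizer (D : Set G) := by
      intro s hs
      rw [mem_normalizer_iff]
      intro d
      refine ⟨fun hd => hDn s (hNV s hs) d hd, fun hd => ?_⟩
      have := hDn s⁻¹ (hNV _ (inv_mem hs)) _ hd
      have e : s⁻¹ * (s * d * s⁻¹) * s⁻¹⁻¹ = d := by group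
      rwa [e] at this
    obtain ⟨c, hcD, hcz, hc1⟩ := CaseD8.exists_mem_zc S.isPGroup' hDS hSD hDne
    rcases (hzc c).1 hcz with h | h
    · exact absurd h hc1
    · rwa [h] at hcD
  · intro y hy hyc hyy
    exact (hzc y).1 (VModule.mem_zc.2 ⟨hy, fun b hb => (hyc b hb).symm, by rw [pow_two]; exact hyy⟩)
  · refine ⟨h, hhz, ?_⟩
    intro h1
    apply hwa
    have hhz' : h * z * h⁻¹ = z := by rw [hhz, mul_assoc, mul_inv_cancel, mul_one]
    rcases hfour b hb with rfl | rfl | rfl | rfl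
    · group
    · rw [hhz', hza]
    · exact h1
    · have e : h * (z * a) * h⁻¹ = z * (h * a * h⁻¹) := by
        calc h * (z * a) * h⁻¹ = (h * z * h⁻¹) * (h * a * h⁻¹) := by group
          _ = z * (h * a * h⁻¹) := by rw [hhz']
      rw [e, mul_assoc, h1, ← mul_assoc, hza, mul_assoc]

end Cfsg.Agent.Omega.IIa2
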